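import Cfsg.Agent.H992.BB.Final
import Cfsg.Agent.H992.CC.Final
import Cfsg.Agent.H975.CVB.Row

/-!
# (F) for `Ω_{2m+1}(q)`, `q` odd

* `fixAll_Omega` : `x ∈ Ω_{2m+1}(q)` of order prime to `p`, conjugate by an isometry over the algebraic closure to
  `diag(1, t, t⁻¹)` with `∏ t i ^ (± 1) = 1`, fixes a nonzero vector in every module;
* `fixAll_POmega`, `fixRow` (the form of helper975).
-/

set_option autoImplicit false
set_option linter.unusedSimpArgs false
set_option linter.unusedSectionVars false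

namespace Cfsg.Agent.H992.BB

open QuadraticMap Cfsg.Agent.LieClassical Cfsg.Agent.LieClassical.OrthCore Cfsg.Agent.LieClassical.OmegaReindex
  Cfsg.Agent.LieClassical.OrthFinite Cfsg.Agent.H45.Uni Finset

universe u v

section

variable {m p : ℕ} {F : Type v} [Field F]

/-- the diagonal matrix `(1, t, t⁻¹)` -/
def dg {K : Type*} [Field K] (t : Fin m → Kˣ) : Matrix (Ix m) (Ix m) K := Matrix.diagonal fun j => (torVec t j : K)

theorem dg_mulVec {K : Type*} [Field K] (t : Fin m → Kˣ) (v : Ix m → K) : (dg t).mulVec v = tor t v := by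
  funext j
  rw [dg, Matrix.mulVec_diagonal, tor_apply]

theorem good_quadOdd [Fintype F] (hm : 2 ≤ m) (h2 : (2 : F) ≠ 0) : OrthTrans.Good (quadOdd m F) :=
  good_of_finite (nondeg_of_nondegenerate (quadOdd_nondegenerate h2)) (by
    rw [Module.finrank_fintype_fun_eq_card]
    simp [Fintype.card_sum]
    omega)

/-- `Ω_{2m+1}(F)` is the group `E (quadOdd m F)` -/
theorem exists_eqv [Fintype F] (hm : 2 ≤ m) (h2 : (2 : F) ≠ 0) :
    ∃ e : Cfsg.Omega F (Cfsg.quadFormOdd m F) ≃* GG m F, ∀ x : Cfsg.Omega F (Cfsg.quadFormOdd m F),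
      (e x).1 = glEquiv (Ix m) F ((x : Cfsg.isometryGroup F (Cfsg.quadFormOdd m F)) :
        Matrix.GeneralLinearGroup (Ix m) F) := by
  rw [← coe_quadOdd]
  exact ⟨(omegaEquiv (quadOdd m F)).trans (MulEquiv.subgroupCongr (good_quadOdd hm h2).commutator_eq_E),
    fun x => rfl⟩

theorem bcl_glEquiv {K : Type*} [Field K] [Algebra F K] (g : Matrix.GeneralLinearGroup (Ix m) F) :
    bcl m F K (glEquiv (Ix m) F g) = glEquiv (Ix m) K (Matrix.GeneralLinearGroup.map (algebraMap F K) g) := by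
  unfold bcl
  change glEquiv (Ix m) K (Matrix.GeneralLinearGroup.map (algebraMap F K) ((glEquiv (Ix m) F).symm
    (glEquiv (Ix m) F g))) = _
  rw [MulEquiv.symm_apply_apply]

variable [Fact p.Prime] [Fintype F]

/-- **(F)** for `Ω_{2m+1}(q)`, `q` odd -/
theorem fixAll_Omega [CharP F p] (hp2 : p ≠ 2) (hm : 2 ≤ m) (x : Cfsg.Omega F (Cfsg.quadFormOdd m F))
    (hx : (orderOf x).Coprime p) {g : Matrix.GeneralLinearGroup (Ix m) (AlgebraicClosure F)}
    (hg : g ∈ Cfsg.isometryGroup (AlgebraicClosure F) (Cfsg.quadFormOdd m (AlgebraicClosure F)))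
    {t : Fin m → (AlgebraicClosure F)ˣ}
    (hxt : (((x : Cfsg.isometryGroup F (Cfsg.quadFormOdd m F)) : Matrix.GeneralLinearGroup (Ix m) F) :
      Matrix (Ix m) (Ix m) F).map (algebraMap F (AlgebraicClosure F)) =
        (g : Matrix (Ix m) (Ix m) (AlgebraicClosure F)) * dg t * ((g⁻¹ : Matrix.GeneralLinearGroup (Ix m)
          (AlgebraicClosure F)) : Matrix (Ix m) (Ix m) (AlgebraicClosure F))) {s : Fin m → ℤ}
    (hs : ∀ i, s i = 1 ∨ s i = -1) (ht : ∏ i, t i ^ s i = 1) : H425.KFix.FixAll.{u} p x := by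
  have hpp : p.Prime := Fact.out
  have h2F : (2 : F) ≠ 0 := H41.StDiag.two_ne_zero_of hpp hp2
  obtain ⟨e, he⟩ := exists_eqv (F := F) hm h2F
  have hA : glEquiv (Ix m) (AlgebraicClosure F) g ∈ O (quadOdd m (AlgebraicClosure F)) := by
    rw [mem_O]
    intro v
    have h1 := (mem_isometryGroup_iff.1 hg) v
    rw [glEquiv_apply, coe_quadOdd]
    exact h1
  have hB : (bc m F (AlgebraicClosure F) (e x)).1 = glEquiv (Ix m) (AlgebraicClosure F) g * tor t *
      (glEquiv (Ix m) (AlgebraicClosure F) g)⁻¹ := by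
    rw [bc_val, he, bcl_glEquiv]
    ext v : 1
    rw [glEquiv_apply]
    have h1 : ((Matrix.GeneralLinearGroup.map (algebraMap F (AlgebraicClosure F))
      ((x : Cfsg.isometryGroup F (Cfsg.quadFormOdd m F)) : Matrix.GeneralLinearGroup (Ix m) F) :
        Matrix.GeneralLinearGroup (Ix m) (AlgebraicClosure F)) : Matrix (Ix m) (Ix m) (AlgebraicClosure F)) =
        (((x : Cfsg.isometryGroup F (Cfsg.quadFormOdd m F)) : Matrix.GeneralLinearGroup (Ix m) F) :
      Matrix (Ix m) (Ix m) F).map (algebraMap F (AlgebraicClosure F)) := rfl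
    rw [h1, hxt, ← Matrix.mulVec_mulVec, ← Matrix.mulVec_mulVec, dg_mulVec, ← map_inv]
    rfl
  intro W _ _ _ _ ρ
  obtain ⟨w, hw0, hw⟩ := exists_fix_signs hp2 hm (e x) (by rwa [MulEquiv.orderOf_eq]) hA hB hs ht W
    (ρ.comp e.symm.toMonoidHom)
  refine ⟨w, hw0, ?_⟩
  have h3 : (ρ.comp e.symm.toMonoidHom) (e x) = ρ x := by
    show ρ (e.symm (e x)) = ρ x
    rw [e.symm_apply_apply]
  rw [h3] at hw
  exact hw

/-- **(F)** for `PΩ_{2m+1}(q)`, `q` odd -/
theorem fixAll_POmega [CharP F p] (hp2 : p ≠ 2) (hm : 2 ≤ m) (x : Cfsg.Omega F (Cfsg.quadFormOdd m F))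
    (hx : (orderOf x).Coprime p) {g : Matrix.GeneralLinearGroup (Ix m) (AlgebraicClosure F)}
    (hg : g ∈ Cfsg.isometryGroup (AlgebraicClosure F) (Cfsg.quadFormOdd m (AlgebraicClosure F)))
    {t : Fin m → (AlgebraicClosure F)ˣ}
    (hxt : (((x : Cfsg.isometryGroup F (Cfsg.quadFormOdd m F)) : Matrix.GeneralLinearGroup (Ix m) F) :
      Matrix (Ix m) (Ix m) F).map (algebraMap F (AlgebraicClosure F)) =
        (g : Matrix (Ix m) (Ix m) (AlgebraicClosure F)) * dg t * ((g⁻¹ : Matrix.GeneralLinearGroup (Ix m)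
          (AlgebraicClosure F)) : Matrix (Ix m) (Ix m) (AlgebraicClosure F))) {s : Fin m → ℤ}
    (hs : ∀ i, s i = 1 ∨ s i = -1) (ht : ∏ i, t i ^ s i = 1) :
    H425.KFix.FixAll.{u} p (QuotientGroup.mk x : Cfsg.POmega F (Cfsg.quadFormOdd m F)) :=
  (fixAll_Omega hp2 hm x hx hg hxt hs ht).map (QuotientGroup.mk' _)

end

/-- the form of helper975 -/
theorem fixRow (F : Type) [Field F] [Fintype F] (p : ℕ) [Fact p.Prime] [CharP F p] (m : ℕ) (hp2 : p ≠ 2) (hm : 2 ≤ m) :
    H975.CVB.FixRow.{u} F p m := by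
  intro x g ε hx hxt hε W _ _ _ hW φ
  have hpp : p.Prime := Fact.out
  have hε0 : ∀ i, ε i ≠ 0 := by
    intro i h0
    rw [Finset.prod_eq_zero (Finset.mem_univ i) h0] at hε
    exact zero_ne_one hε
  set t : Fin m → (AlgebraicClosure F)ˣ := fun i => Units.mk0 (ε i) (hε0 i) with ht
  have hdg : (H975.CVB.dgO ε : Matrix (Ix m) (Ix m) (AlgebraicClosure F)) = dg t := by
    unfold H975.CVB.dgO dg
    congr 1
    funext j
    rcases j with j | j | j
    · exact Units.val_one.symm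
    · rfl
    · change (ε j)⁻¹ = (((t j)⁻¹ : (AlgebraicClosure F)ˣ) : AlgebraicClosure F)
      rw [Units.val_inv_eq_inv_val]
      rfl
  let _ : Module (ZMod p) W := AddCommGroup.zmodModule hW
  obtain ⟨w, hw0, hw⟩ := fixAll_Omega (s := fun _ => 1) (t := t) hp2 hm x
    (Nat.Coprime.symm ((Nat.Prime.coprime_iff_not_dvd hpp).2 hx)) g.2 (by rw [hxt, hdg]; rfl) (fun _ => Or.inl rfl) (by
      apply Units.ext
      rw [Units.coe_prod, Units.val_one, ← hε]
      exact Finset.prod_congr rfl fun i _ => by rw [zpow_one]; rfl) W (Cfsg.Agent.H992.CC.linRep W φ)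
  exact ⟨w, hw0, hw⟩

end Cfsg.Agent.H992.BB
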