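import Cfsg.Agent.H992.BB.Main
import Cfsg.Agent.H373.CV.Base

/-!
# Fixed vectors for `Ω_{2m+1}(q)`, `q` odd, in its own characteristic

* `exists_fix_of_sum` : an element with a nonzero sum for every weight;
* `exists_fix_signs` : `x` conjugate over the algebraic closure to a diagonal element with `∏ t i ^ (± 1) = 1`;
* `fixAll_Omega`, `fixAll_POmega`, `hit_POmega` : the forms for `Ω_{2m+1}(q)`.
-/

set_option autoImplicit false
set_option linter.unusedSimpArgs false
set_option linter.unusedSectionVars false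

namespace Cfsg.Agent.H992.BB

open QuadraticMap Cfsg.Agent.LieClassical Cfsg.Agent.LieClassical.OrthCore Cfsg.Agent.LieClassical.OmegaReindex
  Cfsg.Agent.LieClassical.OrthFinite Cfsg.Agent.H45.Uni Polynomial Finset TensorProduct

section main

variable {m p : ℕ} [Fact p.Prime] {F : Type*} [Field F] [Fintype F] {k : Type*} [Field k] [Algebra F k]

/-- simple modules over the algebraic closure -/
theorem main_simple_q [CharP k p] [Infinite k] (hp : 2 < p) {f : ℕ} (hF : Fintype.card F = p ^ f)
    (h1 : StGen m k) (h2 : StRank m k) (h3 : StComm m k) (h4 : StTor m k) (h5 : StTorMem m k)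
    (hpg : StPgrp p m F)
    {W : Type*} [AddCommGroup W] [Module k W] [FiniteDimensional k W] [Nontrivial W]
    (hwt : StWt m F k W) (hNeg : StNeg m F k (W × (GG m F → k)))
    (ρ : GG m F →* Module.End k W) (hirr : ∀ N : Submodule k W, (∀ g, ∀ v ∈ N, ρ g v ∈ N) → N = ⊥ ∨ N = ⊤)
    (x : GG m F)
    (hV : ∀ n : Fin m → ℕ, (∀ j, aa n j < p ^ f) →
      ∃ h g : GG m k, ∑ i ∈ range (orderOf x), cc n (h * bc m F k x ^ i * g).1 ≠ 0) : ∃ v : W, v ≠ 0 ∧ ρ x v = v := by
  classical
  have := finite_GG m F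
  by_contra hcon
  push Not at hcon
  obtain ⟨v, a, hv0, ha, heven, hv⟩ := hwt ρ inferInstance inferInstance hirr
  -- the exponents
  obtain ⟨n, hn⟩ : ∃ n : Fin m → ℕ, aa n = a := by
    refine ⟨fun j => if j.1 + 1 < m then a j else a j / 2, ?_⟩
    funext j
    unfold aa
    by_cases hj : j.1 + 1 < m
    · beta_reduce
      rw [if_pos hj, if_pos hj]
    · beta_reduce
      rw [if_neg hj, if_neg hj]
      have := j.2
      exact Nat.two_mul_div_two_of_even (heven j (by omega))
  subst hn
  -- the order of `x`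
  set r := orderOf x with hr
  -- the sum of the powers kills `W`
  have hsum : ∀ w : W, ∑ i ∈ range r, ρ (x ^ i) w = 0 := by
    intro w
    by_contra hne
    apply hcon _ hne
    rw [map_sum]
    have e : ∀ i, ρ x (ρ (x ^ i) w) = ρ (x ^ (i + 1)) w := by
      intro i
      rw [pow_succ', map_mul]; rfl
    simp only [e]
    have h6 := Finset.sum_range_succ (fun i => ρ (x ^ i) w) r
    have h7 := Finset.sum_range_succ' (fun i => ρ (x ^ i) w) r
    rw [h6] at h7
    have h8 : x ^ r = 1 := pow_orderOf_eq_one x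
    simp only [h8, pow_zero] at h7
    exact (add_right_cancel h7).symm
  -- relations for `c` on `S`
  have hrel : ∀ g h : GG m F, ∑ i ∈ range r, cc n (bc m F k (h * (x ^ i * g))).1 = 0 := by
    intro g h
    have h6 := ann (p := p) ρ hv0 (fun g : GG m F => cc n (bc m F k g).1) hpg (fun u hu => ?_)
      (gen_of_wt h2 hNeg ha ρ hv) (range r) (fun _ => 1) (fun i => x ^ i * g) ?_ h
    · simpa only [one_mul] using h6
    · have h7 : ∀ g : GG m F, cc n (bc m F k (u * g)).1 = cc n (bc m F k g).1 := by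
        induction hu using Subgroup.closure_induction with
        | mem u hu =>
          obtain ⟨i, s, rfl⟩ := hu
          intro g
          rw [map_mul, bc_yr, cc_yr_mul]
        | one => intro g; rw [one_mul]
        | mul a b _ _ h1 h2 => intro g; rw [mul_assoc, h1, h2]
        | inv a _ h1 => intro g; rw [← h1, mul_inv_cancel_left]
      have h8 := h7 1
      rw [mul_one, map_one] at h8
      show cc n (bc m F k u).1 = 1
      rw [h8]
      exact cc_one n
    · simp only [one_smul]
      have e : ∀ i, ρ (x ^ i * g) v = ρ (x ^ i) (ρ g v) := by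
        intro i
        rw [map_mul]; rfl
      simp only [e]
      exact hsum _
  -- transfer to `G(k)`
  have hn' : ∀ j, aa n j < p ^ f := fun j => by rw [← hF]; exact ha j
  let P : Subgroup (GG m k) := (Subgroup.closure {g : GG m F | ∃ i s, g = xr i s}).map (bc m F k)
  have hPfin : Finite P := by
    have : Finite (Subgroup.closure {g : GG m F | ∃ i s, g = xr i s}) := inferInstance
    exact Set.Finite.image (bc m F k) (Set.toFinite (Subgroup.closure {g : GG m F | ∃ i s, g = xr i s} : Set (GG m F)))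
  have hP : IsPGroup p P := (pgroup_x hpg).map _
  have hPS : P ≤ (bc m F k).range := by
    rintro _ ⟨g, -, rfl⟩
    exact ⟨g, rfl⟩
  have htr := (datq (e := f) hp n hn' h1 h2 h3 h4 h5).transfer (Fq := F) hF (S := (bc m F k).range) hP hPS
    (fun i s => ⟨xr i s, Subgroup.subset_closure ⟨i, s, rfl⟩, by rw [bc_xr]; rfl⟩)
    tau tau_mul tau_tau (fun a => cc_tau n a) (by rintro _ ⟨g, rfl⟩; exact ⟨tau g, bc_tau g⟩)
    (range r) (fun i => (bc m F k x) ^ i) (by
      rintro _ ⟨h, rfl⟩ _ ⟨g, rfl⟩
      have h6 := hrel g h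
      rw [← h6]
      refine Finset.sum_congr rfl fun i _ => ?_
      show cc n (bc m F k h * (bc m F k x) ^ i * bc m F k g).1 = _
      rw [← map_pow, ← map_mul, ← map_mul, mul_assoc])
  obtain ⟨h0, g0, hne⟩ := hV n hn'
  exact hne (htr h0 g0)

end main

universe u v

section final

variable {m p : ℕ} [Fact p.Prime] {F : Type v} [Field F] [Fintype F]

/-- **fixed vectors**, general form -/
theorem exists_fix_of_sum [CharP F p] (hp : 2 < p) (hm : 1 ≤ m) {f : ℕ} (hF : Fintype.card F = p ^ f) (x : GG m F)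
    (hV : ∀ n : Fin m → ℕ, (∀ j, aa n j < p ^ f) →
      ∃ h g : GG m (AlgebraicClosure F),
        ∑ i ∈ range (orderOf x), cc n (h * bc m F (AlgebraicClosure F) x ^ i * g).1 ≠ 0)
    (V : Type u) [AddCommGroup V] [Module (ZMod p) V] [Finite V]
    [Nontrivial V] (ρ : GG m F →* (V ≃ₗ[ZMod p] V)) : ∃ w : V, w ≠ 0 ∧ ρ x w = w := by
  classical
  let k := AlgebraicClosure F
  have hck : CharP k p := charP_of_injective_algebraMap (algebraMap F k).injective p
  have h2F : (2 : F) ≠ 0 := by
    intro h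
    have h1 : ((2 : ℕ) : F) = 0 := by exact_mod_cast h
    rw [CharP.cast_eq_zero_iff F p] at h1
    exact absurd (Nat.le_of_dvd (by norm_num) h1) (by omega)
  let _ : Algebra (ZMod p) k := ZMod.algebra k p
  have : Module.Finite (ZMod p) V := Module.Finite.of_finite
  -- base change
  let ρk : GG m F →* Module.End k (k ⊗[ZMod p] V) :=
    { toFun := fun g => (ρ g).toLinearMap.baseChange k
      map_one' := by
        rw [map_one]
        exact LinearMap.baseChange_id
      map_mul' := fun g h => by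
        rw [map_mul]
        exact LinearMap.baseChange_comp _ _ }
  have hnt : Nontrivial (k ⊗[ZMod p] V) := by
    obtain ⟨w, hw⟩ := _root_.exists_ne (0 : V)
    have hinj : Function.Injective (fun v : V => (1 : k) ⊗ₜ[ZMod p] v) := by
      have h1 : Function.Injective (LinearMap.rTensor V (Algebra.linearMap (ZMod p) k)) :=
        Module.Flat.rTensor_preserves_injective_linearMap _ (algebraMap (ZMod p) k).injective
      intro a b hab
      have h2 : LinearMap.rTensor V (Algebra.linearMap (ZMod p) k) ((TensorProduct.lid (ZMod p) V).symm a) =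
          LinearMap.rTensor V (Algebra.linearMap (ZMod p) k) ((TensorProduct.lid (ZMod p) V).symm b) := by
        rw [TensorProduct.lid_symm_apply, TensorProduct.lid_symm_apply, LinearMap.rTensor_tmul,
          LinearMap.rTensor_tmul, Algebra.linearMap_apply, map_one]
        exact hab
      exact (TensorProduct.lid (ZMod p) V).symm.injective (h1 h2)
    refine ⟨⟨(1 : k) ⊗ₜ[ZMod p] w, 0, fun h => hw ?_⟩⟩
    apply hinj
    show (1 : k) ⊗ₜ[ZMod p] w = (1 : k) ⊗ₜ[ZMod p] (0 : V)
    rw [h, TensorProduct.tmul_zero]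
  obtain ⟨N, hN0, hNinv, hNmin⟩ := exists_min ρk
  let ρN : GG m F →* Module.End k N :=
    { toFun := fun g => (ρk g).restrict (hNinv g)
      map_one' := by
        ext x
        simp
      map_mul' := fun g h => by
        ext x
        simp }
  have hNnt : Nontrivial N := Submodule.nontrivial_iff_ne_bot.2 hN0
  have hirr : ∀ M : Submodule k N, (∀ g, ∀ v ∈ M, ρN g v ∈ M) → M = ⊥ ∨ M = ⊤ := by
    intro M hM
    by_cases h0 : M = ⊥
    · exact Or.inl h0
    right
    have h1 := hNmin (M.map N.subtype) (fun h => h0 (by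
      rw [eq_bot_iff]
      intro v hv
      have h2 : v.1 ∈ M.map N.subtype := ⟨v, hv, rfl⟩
      rw [h, Submodule.mem_bot] at h2
      exact Subtype.ext h2)) (by
        rintro g _ ⟨v, hv, rfl⟩
        exact ⟨ρN g v, hM g v hv, rfl⟩) (Submodule.map_subtype_le N M)
    rw [eq_top_iff]
    rintro ⟨v, hv⟩ -
    rw [← h1] at hv
    obtain ⟨w, hw, hwv⟩ := hv
    have : w = ⟨v, by rw [← h1]; exact ⟨w, hw, hwv⟩⟩ := Subtype.ext hwv
    rw [← this]
    exact hw
  have hwtN : StWt m F k N := H421.Uni.stWt (p := p) ((Fact.out : p.Prime).odd_of_ne_two (by omega))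
  have hNegN : StNeg m F k (N × (GG m F → k)) := H421.Uni.stNeg h2F hm
  obtain ⟨v, hv0, hv⟩ := main_simple_q (k := k) hp hF (H421.Uni.stGen hm) H421.Uni.stRank H421.Uni.stComm
    H421.Uni.stTor H421.Uni.stTorMem H421.Uni.stPgrp hwtN hNegN ρN hirr x hV
  -- back to `V`
  by_contra hcon
  push Not at hcon
  have hinj : Function.Injective ((ρ x).toLinearMap - LinearMap.id : V →ₗ[ZMod p] V) := by
    rw [injective_iff_map_eq_zero]
    intro w hw
    by_contra hw0
    exact hcon w hw0 (sub_eq_zero.1 hw)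
  have hinj2 : Function.Injective (LinearMap.lTensor k ((ρ x).toLinearMap - LinearMap.id : V →ₗ[ZMod p] V)) :=
    Module.Flat.lTensor_preserves_injective_linearMap _ hinj
  apply hv0
  apply Subtype.ext
  apply hinj2
  rw [LinearMap.lTensor_sub, LinearMap.sub_apply]
  have h3 : ρk x v.1 = v.1 := congrArg Subtype.val hv
  have h4 : LinearMap.lTensor k (ρ x).toLinearMap v.1 = v.1 := h3
  rw [h4, LinearMap.lTensor_id]
  simp


/-- **fixed vectors** : `x` conjugate to a diagonal element with `∏ t i ^ (± 1) = 1` -/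
theorem exists_fix_signs [CharP F p] (hp2 : p ≠ 2) (hm : 2 ≤ m) (x : GG m F) (hx : (orderOf x).Coprime p)
    {g : (Ix m → AlgebraicClosure F) ≃ₗ[AlgebraicClosure F] (Ix m → AlgebraicClosure F)}
    (hg : g ∈ O (quadOdd m (AlgebraicClosure F))) {t : Fin m → (AlgebraicClosure F)ˣ}
    (hxt : (bc m F (AlgebraicClosure F) x).1 = g * tor t * g⁻¹) {s : Fin m → ℤ} (hs : ∀ i, s i = 1 ∨ s i = -1)
    (ht : ∏ i, t i ^ s i = 1) (V : Type u) [AddCommGroup V] [Module (ZMod p) V] [Finite V]
    [Nontrivial V] (ρ : GG m F →* (V ≃ₗ[ZMod p] V)) : ∃ w : V, w ≠ 0 ∧ ρ x w = w := by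
  classical
  have hpp : p.Prime := Fact.out
  have hp : 2 < p := lt_of_le_of_ne hpp.two_le (Ne.symm hp2)
  have hck : CharP (AlgebraicClosure F) p :=
    charP_of_injective_algebraMap (algebraMap F (AlgebraicClosure F)).injective p
  have h2 : (2 : AlgebraicClosure F) ≠ 0 := H41.StDiag.two_ne_zero_of hpp hp2
  obtain ⟨f, -, hF⟩ := FiniteField.card F p
  obtain ⟨r, rfl⟩ : ∃ r, m = r + 1 := ⟨m - 1, by omega⟩
  obtain ⟨s0, hs0, hVx⟩ := exists_Vx h2 r
  obtain ⟨g', t', hxt', ht'⟩ := exists_signs h2 hm hg hxt hs hs0 ht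
  have hR : ((orderOf x : ℕ) : AlgebraicClosure F) ≠ 0 := by
    intro h
    rw [CharP.cast_eq_zero_iff (AlgebraicClosure F) p] at h
    exact ((hpp.coprime_iff_not_dvd).1 hx.symm) h
  refine exists_fix_of_sum hp (by omega) hF x (fun n _ => ?_) V ρ
  refine exists_ne H421.Uni.stTorMem h2 ?_ (hVx n) hR hxt' ?_
  · intro g hg
    rcases H41.StDiag.mem_E_or_neg h2 hm hg with h | h
    · exact ⟨g, h, 1, one_ne_zero, fun v => (one_smul _ _).symm⟩
    · refine ⟨_, h, -1, neg_ne_zero.2 one_ne_zero, fun v => ?_⟩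
      rw [neg_one_smul]
      rfl
  · rw [chr_apply]
    have : ∏ i, t' i ^ ((n (Fin.last r) : ℤ) * s0 i) = 1 := by
      have e : ∀ i, t' i ^ ((n (Fin.last r) : ℤ) * s0 i) = (t' i ^ s0 i) ^ n (Fin.last r) := by
        intro i
        rw [mul_comm, _root_.zpow_mul, zpow_natCast]
      rw [Finset.prod_congr rfl fun i _ => e i, Finset.prod_pow, ht', one_pow]
    rw [this, Units.val_one]

end final

end Cfsg.Agent.H992.BB
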