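import Cfsg.Agent.H992.BB.Vx
import Cfsg.Agent.H41.StDiag
import Cfsg.Agent.H421.Uni.Wt
import Cfsg.Agent.H45.Uni.Final

/-!
# `Ω_{2m+1}(q)`, `q` odd: simple modules over the algebraic closure

* `datq` : the datum of `cc n` for `q = p ^ e`;
* `exists_ne` : the sum over the powers of a diagonal element with a trivial value;
* `exists_signs` : sign changes;
* `main_simple_q`.
-/

set_option autoImplicit false
set_option linter.unusedSimpArgs false
set_option linter.unusedSectionVars false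

namespace Cfsg.Agent.H992.BB

open QuadraticMap Cfsg.Agent.LieClassical.OrthCore Cfsg.Agent.LieClassical.OmegaReindex
  Cfsg.Agent.LieClassical.OrthFinite Cfsg.Agent.H45.Uni Polynomial Finset

/-! ### the datum -/

section datum

variable {m : ℕ} {k : Type*} [Field k]

open Cfsg.Agent.H45.UniS (RepD)

theorem repD_entry (i j : Fin m) (φ : (Ix m → k) →ₗ[k] k) (v : Ix m → k) :
    RepD fun s t => φ ((xr i (-s)).1 ((xr j t).1 ((xr i s).1 v))) := by
  -- the degrees
  have hneg : ∀ {d : ℕ} {f : k → k}, PolLE (id : k → k) d f → PolLE (id : k → k) d fun s => f (-s) := by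
    rintro d f ⟨P, h1, h2⟩
    refine ⟨P.comp (-Polynomial.X), ?_, fun s => ?_⟩
    · rw [natDegree_comp, natDegree_neg, natDegree_X, mul_one]; exact h1
    · beta_reduce
      rw [eval_comp, eval_neg, eval_X]
      exact h2 (-s)
  obtain ⟨d1, d2, hd, h1, h2⟩ : ∃ d1 d2 : ℕ, d1 + d2 ≤ 2 ∧
      (∀ ψ : (Ix m → k) →ₗ[k] k, PolLE (id : k → k) d1 fun s => ψ ((xr i (-s)).1 (ve j))) ∧
      (∀ ψ : (Ix m → k) →ₗ[k] k, PolLE (id : k → k) d2 fun s => ψ ((xr i (-s)).1 (nb j))) := by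
    by_cases hj : j.1 = i.1 + 1
    · refine ⟨1, 0, by omega, fun ψ => ?_, fun ψ => ?_⟩
      · refine ⟨C (ψ (ve j)) + C (ψ (ve i)) * Polynomial.X, ?_, fun s => ?_⟩
        · refine (natDegree_add_le _ _).trans (max_le (by simp)
            ((natDegree_C_mul_le _ _).trans natDegree_X_le))
        · beta_reduce
          rw [xr_ve, if_pos hj, neg_smul, sub_neg_eq_add, map_add, map_smul, eval_add, eval_C, eval_mul,
            eval_C, eval_X, smul_eq_mul, mul_comm]
          rfl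
      · simp only [xr_nb hj]
        exact PolLE.const _ _
    · refine ⟨0, 2, by omega, fun ψ => ?_, fun ψ => ?_⟩
      · simp only [xr_ve, if_neg hj]
        exact PolLE.const _ _
      · exact hneg (pol_xr i ψ (nb j))
  obtain ⟨A, hA, hA'⟩ := h1 ((polarBilin (quadOdd m k)).flip v)
  obtain ⟨B, hB, hB'⟩ := h1 φ
  obtain ⟨A2, hA2, hA2'⟩ := h2 ((polarBilin (quadOdd m k)).flip v)
  obtain ⟨B2, hB2, hB2'⟩ := h2 φ
  refine ⟨C (C (φ v)) + C (A * B2 - A2 * B) * Polynomial.X -
    C (C (quadOdd m k (nb j)) * (A * B)) * Polynomial.X ^ 2, fun r => ?_, fun s t => ?_⟩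
  · rw [coeff_sub, coeff_add, coeff_C, coeff_C_mul, coeff_X, coeff_C_mul, coeff_X_pow]
    refine (natDegree_sub_le _ _).trans (max_le ((natDegree_add_le _ _).trans (max_le ?_ ?_)) ?_)
    · split_ifs <;> simp
    · split_ifs with hr
      · subst hr
        rw [mul_one]
        refine (natDegree_sub_le _ _).trans (max_le ?_ ?_)
        · exact natDegree_mul_le.trans (by omega)
        · exact natDegree_mul_le.trans (by omega)
      · simp
    · split_ifs with hr
      · subst hr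
        rw [mul_one]
        exact (natDegree_C_mul_le _ _).trans (natDegree_mul_le.trans (by omega))
      · simp
  · have hO := E_le_O (xr i (-s)).2
    have hu : quadOdd m k ((xr i (-s)).1 (ve j)) = 0 := by rw [mem_O.1 hO]; exact Q_ve j
    have hw : polar (quadOdd m k) ((xr i (-s)).1 (ve j)) ((xr i (-s)).1 (t • nb j)) = 0 := by
      rw [polar_map hO]; exact ve_perp j t
    have h3 := siegel_conj hO (Q_ve j) (ve_perp j t) hu hw
    have h4 : (xr i (-s)).1 ((xr j t).1 ((xr i s).1 v)) =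
        siegel (quadOdd m k) ((xr i (-s)).1 (ve j)) ((xr i (-s)).1 (t • nb j)) hu hw v := by
      rw [← h3, xr_neg_inv]
      rfl
    beta_reduce
    rw [h4, siegel_apply]
    have e1 : polar (quadOdd m k) ((xr i (-s)).1 (ve j)) v = A.eval s := hA' s
    have e2 : φ ((xr i (-s)).1 (ve j)) = B.eval s := hB' s
    have e3 : polar (quadOdd m k) ((xr i (-s)).1 (nb j)) v = A2.eval s := hA2' s
    have e4 : φ ((xr i (-s)).1 (nb j)) = B2.eval s := hB2' s
    simp only [map_add, map_sub, map_smul, polar_smul_left, smul_eq_mul, QuadraticMap.map_smul, mem_O.1 hO]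
    rw [e1, e2, e3, e4]
    simp only [Polynomial.map_sub, Polynomial.map_add, Polynomial.map_mul, Polynomial.map_C, Polynomial.map_X,
      Polynomial.map_pow, coe_evalRingHom, eval_sub, eval_add, eval_mul, eval_C, eval_X, eval_pow, id]
    ring

theorem repD_cc (n : Fin m → ℕ) (i j : Fin m) (g h : (Ix m → k) ≃ₗ[k] (Ix m → k)) :
    RepD fun s t => cc n (g * (xr i (-s)).1 * (xr j t).1 * (xr i s).1 * h) := by
  unfold cc
  refine RepD.prod _ fun l _ => RepD.pow ?_ _
  exact RepD.det (A := fun s t => mtx l (g * (xr i (-s)).1 * (xr j t).1 * (xr i s).1 * h)) fun a b =>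
    repD_entry i j (cf g _) (h (ve _))

/-- **the datum of `cc n`, for `q = p ^ e`** -/
noncomputable def datq {p e : ℕ} (hp : 2 < p) (n : Fin m → ℕ) (hn : ∀ j, aa n j < p ^ e) (h1 : StGen m k)
    (h2 : StRank m k) (h3 : StComm m k) (h4 : StTor m k) (h5 : StTorMem m k) : DatQ p e (Fin m) k (GG m k) where
  x := xr
  y := yr
  T := TT m k
  δ s := ⟨tor (dlv s), h5 _⟩
  c g := cc n g.1
  wt := (∑ j : Fin m, (∑ a : Fin (j.1 + 1), (m - a.1)) * n j : ℕ)
  N := ∑ j : Fin m, n j * ((j.1 + 1) * (2 * m))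
  M := ∑ j : Fin m, m * ((j.1 + 1) * n j)
  d := 1
  d_pos := one_pos
  x_add := xr_add
  y_add := yr_add
  δ_mul s t := Subtype.ext (by
    show tor (dlv (s * t)) = tor (dlv s) * tor (dlv t)
    rw [dlv_mul, tor_mul])
  δ_mem s := mem_TT.2 ⟨_, rfl⟩
  c_one := cc_one n
  c_x g i s := cc_mul_xr n g.1 i s
  c_y g i s := cc_yr_mul n g i s
  c_T t ht g := by
    obtain ⟨u, hu⟩ := mem_TT.1 ht
    show cc n (t.1 * g.1) = cc n t.1 * cc n g.1
    rw [hu, cc_tor_mul, cc_tor]
  c_δ g s := by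
    show cc n (g.1 * tor (dlv s)) = _
    rw [cc_mul_tor, lam_dlv, zpow_natCast]
  δ_x s i a := by
    have h := (h4 (dlv s) (h5 _) i a).1
    rw [rt_dlv] at h
    rw [pow_one]
    exact h
  T_x t ht i := by
    obtain ⟨u, hu⟩ := mem_TT.1 ht
    obtain ⟨t, ht'⟩ := t
    have hu' : t = tor u := hu
    subst hu'
    refine ⟨((rt i u)⁻¹ : kˣ), fun a => ?_⟩
    have h := (h4 u ht' i (((rt i u)⁻¹ : kˣ) * a)).1
    rw [← mul_assoc, ← Units.val_mul, mul_inv_cancel, Units.val_one, one_mul] at h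
    exact h.symm
  T_y t ht i := by
    obtain ⟨u, hu⟩ := mem_TT.1 ht
    obtain ⟨t, ht'⟩ := t
    have hu' : t = tor u := hu
    subst hu'
    exact ⟨((rt i u)⁻¹ : kˣ), fun a => (h4 u ht' i a).2⟩
  comm i j a s hij := h3 i j a s hij
  rank i a s h := by
    obtain ⟨h6, h7⟩ := h2 i a s (Units.mk0 _ h) rfl
    exact ⟨_, mem_TT.2 ⟨_, rfl⟩, h7⟩
  gen := by
    rw [eq_top_iff]
    intro g _
    exact h1 g
  pol_x i g h := by
    obtain ⟨P, hP, hP'⟩ := pol_x n i g.1 h.1
    refine ⟨P, hP.trans (Finset.sum_le_sum fun j _ => ?_), hP'⟩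
    have : 1 ≤ m := by have := j.2; omega
    gcongr
    omega
  pol_y i g h := by
    obtain ⟨P, hP, hP'⟩ := pol_y n i g.1 h.1
    exact ⟨P, hP'⟩
  pol_δ g h := pol_δ n g.1 h.1
  deg i g := by
    obtain ⟨P, hP, hP'⟩ := deg_cc n i g.1
    exact ⟨P, hP.trans_lt (hn i), hP'⟩
  pair i j g h := by
    obtain ⟨P, hP, hP'⟩ := repD_cc n i j g.1 h.1
    refine ⟨P, fun l hl => (hP _).trans_lt ?_, hP'⟩
    obtain ⟨e', rfl⟩ : ∃ e', e = e' + 1 := ⟨e - 1, by omega⟩
    have h5 : p ^ l ≤ p ^ e' := Nat.pow_le_pow_right (by omega) (by omega)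
    rw [pow_succ]
    have h6 : 0 < p ^ e' := pow_pos (by omega) _
    nlinarith

end datum

/-! ### the matrix coefficient -/

section coef

variable {m : ℕ} {k : Type*} [Field k]

open Cfsg.Agent.H168.Uni in
/-- a matrix coefficient with a given weight -/
theorem exists_coef [Infinite k] (h2 : (2 : k) ≠ 0)
    (hO : ∀ g ∈ O (quadOdd m k), ∃ g' ∈ E (quadOdd m k), ∃ ε : k, ε ≠ 0 ∧ ∀ v, g' v = ε • g v)
    {n : Fin m → ℕ} {σ : Fin m → ℤ} (h : Vx m k n σ) :
    ∃ (g h : GG m k) (S : Finset (Fin m → ℤ)) (C : (Fin m → ℤ) → k), σ ∈ S ∧ C σ ≠ 0 ∧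
      ∀ t : Fin m → kˣ, cc n (g.1 * tor t * h.1) = ∑ μ ∈ S, C μ * chr k μ t := by
  classical
  obtain ⟨ζ, u, u', ζ', v, v', c, hu, hv, hc, hZ⟩ := h
  obtain ⟨gU, hgU, hU1, -⟩ := hu.exists_iso h2
  obtain ⟨gV, hgV, -, hV2⟩ := hv.symm.exists_iso h2
  obtain ⟨gU', hgU', a, ha, hUa⟩ := hO gU hgU
  obtain ⟨gV', hgV', b, hb, hVb⟩ := hO gV hgV
  have key : ∀ (t : Fin m → kˣ) (i j : Fin m), (gV'⁻¹ * tor t * gU') (ve j) (.inr (.inl i)) =
      (b * a) * polar (quadOdd m k) (v i) (tor t (u j)) := by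
    intro t i j
    refine (polar_vf i _).symm.trans ?_
    have h1 : (gV'⁻¹ * tor t * gU') (ve j) = gV'⁻¹ (tor t (gU' (ve j))) := rfl
    have h3 : gV' (gV'⁻¹ (tor t (gU' (ve j)))) = tor t (gU' (ve j)) := by
      change (gV' * gV'⁻¹) _ = _
      rw [mul_inv_cancel]; rfl
    rw [h1, ← polar_map (E_le_O hgV') (vf i), h3, hVb, hV2, hUa, hU1, map_smul, QuadraticMap.polar_smul_left,
      QuadraticMap.polar_smul_right, smul_eq_mul, smul_eq_mul, mul_assoc]
  have key2 : ∀ (t : Fin m → kˣ) (j : Fin m), mnr j (gV'⁻¹ * tor t * gU') = (b * a) ^ (j.1 + 1) * mn t v u j := by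
    intro t j
    unfold mnr mn
    have : (Matrix.of fun x y : Fin (j.1 + 1) => (gV'⁻¹ * tor t * gU') (ve (Fin.castLE j.2 y))
        (.inr (.inl (Fin.castLE j.2 x)))) = (b * a) • Matrix.of fun x y : Fin (j.1 + 1) =>
        polar (quadOdd m k) (v (Fin.castLE j.2 x)) (tor t (u (Fin.castLE j.2 y))) := by
      ext x y
      exact key t _ _
    rw [this, Matrix.det_smul, Fintype.card_fin]
  obtain ⟨S, C, h0, hC, hS⟩ := (hZ.smul (∏ j : Fin m, ((b * a) ^ (j.1 + 1)) ^ n j)).exists_sum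
  refine ⟨⟨gV'⁻¹, inv_mem hgV'⟩, ⟨gU', hgU'⟩, S.map (addRightEmbedding σ), fun μ => C (μ - σ), ?_, ?_, ?_⟩
  · exact Finset.mem_map.2 ⟨0, h0, zero_add _⟩
  · beta_reduce
    rw [sub_self, hC]
    exact mul_ne_zero (Finset.prod_ne_zero_iff.2 fun j _ => pow_ne_zero _ (pow_ne_zero _ (mul_ne_zero hb ha))) hc
  · intro t
    rw [Finset.sum_map]
    have h5 := hS t
    have e1 : ∀ μ : Fin m → ℤ, C ((addRightEmbedding σ) μ - σ) * chr k ((addRightEmbedding σ) μ) t =
        chr k σ t * (C μ * ((∏ i, t i ^ μ i : kˣ) : k)) := by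
      intro μ
      have e2 : (addRightEmbedding σ) μ = μ + σ := rfl
      rw [e2, add_sub_cancel_right]
      have e3 : chr k (μ + σ) t = chr k σ t * ((∏ i, t i ^ μ i : kˣ) : k) := by
        rw [chr_apply, chr_apply, ← Units.val_mul]
        congr 1
        rw [← Finset.prod_mul_distrib]
        refine Finset.prod_congr rfl fun i _ => ?_
        rw [Pi.add_apply, zpow_add, mul_comm]
      rw [e3]; ring
    rw [Finset.sum_congr rfl fun μ _ => e1 μ, ← Finset.mul_sum, ← h5]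
    have e4 : chr k σ t * Cfsg.Agent.H168.Uni.chi (-σ) t = 1 := by
      rw [chr_apply]
      unfold Cfsg.Agent.H168.Uni.chi
      rw [← Units.val_mul, ← Finset.prod_mul_distrib]
      have : ∏ i, (t i ^ σ i * t i ^ (-σ) i) = 1 := by
        refine Finset.prod_eq_one fun i _ => ?_
        rw [Pi.neg_apply, zpow_neg, mul_inv_cancel]
      rw [this, Units.val_one]
    have e5 : cc n (gV'⁻¹ * tor t * gU') =
        (∏ j : Fin m, ((b * a) ^ (j.1 + 1)) ^ n j) * ∏ j, mn t v u j ^ n j := by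
      unfold cc
      simp only [key2, mul_pow, Finset.prod_mul_distrib]
    calc cc n (gV'⁻¹ * tor t * gU') = (∏ j : Fin m, ((b * a) ^ (j.1 + 1)) ^ n j) * ∏ j, mn t v u j ^ n j := e5
      _ = (chr k σ t * Cfsg.Agent.H168.Uni.chi (-σ) t) * ((∏ j : Fin m, ((b * a) ^ (j.1 + 1)) ^ n j) *
          ∏ j, mn t v u j ^ n j) := by rw [e4, one_mul]
      _ = _ := by ring

/-- the sum over the powers of a diagonal element -/
theorem exists_ne [Infinite k] (h5 : StTorMem m k) (h2 : (2 : k) ≠ 0)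
    (hO : ∀ g ∈ O (quadOdd m k), ∃ g' ∈ E (quadOdd m k), ∃ ε : k, ε ≠ 0 ∧ ∀ v, g' v = ε • g v)
    {n : Fin m → ℕ} {σ : Fin m → ℤ} (h : Vx m k n σ) {r : ℕ} (hr : (r : k) ≠ 0) {x g0 : GG m k} {t : Fin m → kˣ}
    (hx : x.1 = g0.1 * tor t * (g0.1)⁻¹) (ht : chr k σ t = 1) :
    ∃ h g : GG m k, ∑ i ∈ range r, cc n (h * x ^ i * g).1 ≠ 0 := by
  obtain ⟨g1, h1', S, C, hσS, hC, hCC⟩ := exists_coef h2 hO h
  by_contra hcon
  push Not at hcon
  have hpow : ∀ i, (x ^ i).1 = g0.1 * tor (t ^ i) * (g0.1)⁻¹ := by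
    intro i
    rw [tor_pow, ← conj_pow, ← hx]
    rfl
  have hfin : ∀ s : Fin m → kˣ, ∑ μ ∈ S, (C μ * ∑ i ∈ range r, chr k μ (t ^ i)) * chr k μ s = 0 := by
    intro s
    have h6 := hcon (g1 * g0⁻¹) (g0 * ⟨tor s, h5 s⟩ * h1')
    have e : ∀ i, cc n (g1 * g0⁻¹ * x ^ i * (g0 * ⟨tor s, h5 s⟩ * h1')).1 =
        ∑ μ ∈ S, C μ * (chr k μ (t ^ i) * chr k μ s) := by
      intro i
      have e1 : (g1 * g0⁻¹ * x ^ i * (g0 * ⟨tor s, h5 s⟩ * h1')).1 =
          g1.1 * tor (t ^ i * s) * h1'.1 := by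
        show g1.1 * (g0.1)⁻¹ * (x ^ i).1 * (g0.1 * tor s * h1'.1) = _
        rw [hpow, tor_mul]
        group
      rw [e1, hCC]
      refine Finset.sum_congr rfl fun μ _ => ?_
      rw [← map_mul]
    rw [Finset.sum_congr rfl fun i _ => e i, Finset.sum_comm] at h6
    rw [← h6]
    refine Finset.sum_congr rfl fun μ _ => ?_
    rw [Finset.mul_sum, Finset.sum_mul]
    exact Finset.sum_congr rfl fun i _ => by ring
  have h7 := chr_indep S _ hfin σ hσS
  have h8 : ∑ i ∈ range r, chr k σ (t ^ i) = r := by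
    have e : ∀ i, chr k σ (t ^ i) = 1 := by
      intro i
      rw [map_pow, ht, one_pow]
    simp only [e]
    simp
  rw [h8] at h7
  exact (mul_ne_zero hC hr) h7

end coef

/-! ### sign changes -/

section signs

variable {m : ℕ} {k : Type*} [Field k]

/-- swap `e i` and `f i` for `i ∈ I` -/
def swf (I : Fin m → Bool) : Ix m → Ix m
  | .inl u => .inl u
  | .inr (.inl i) => if I i then .inr (.inr i) else .inr (.inl i)
  | .inr (.inr i) => if I i then .inr (.inl i) else .inr (.inr i)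

theorem swf_swf (I : Fin m → Bool) : Function.Involutive (swf I) := by
  rintro (u | i | i)
  · rfl
  · unfold swf
    by_cases h : I i = true <;> simp [h]
  · unfold swf
    by_cases h : I i = true <;> simp [h]

/-- the isometry -/
def wI (k : Type*) [Field k] (I : Fin m → Bool) : (Ix m → k) ≃ₗ[k] (Ix m → k) :=
  LinearEquiv.funCongrLeft k k (swf_swf I).toPerm

theorem wI_apply (I : Fin m → Bool) (v : Ix m → k) (j : Ix m) : wI k I v j = v (swf I j) := rfl

theorem wI_mem (I : Fin m → Bool) : wI k I ∈ O (quadOdd m k) := by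
  rw [mem_O]
  intro v
  rw [Q_apply, Q_apply]
  congr 1
  apply Finset.sum_congr rfl
  intro i _
  rw [wI_apply, wI_apply]
  by_cases h : I i = true
  · have h1 : swf I (.inr (.inl i)) = .inr (.inr i) := by simp [swf, h]
    have h2 : swf I (.inr (.inr i)) = .inr (.inl i) := by simp [swf, h]
    rw [h1, h2, mul_comm]
  · have h1 : swf I (.inr (.inl i)) = .inr (.inl i) := by simp [swf, h]
    have h2 : swf I (.inr (.inr i)) = .inr (.inr i) := by simp [swf, h]
    rw [h1, h2]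

theorem wI_sq (I : Fin m → Bool) : wI k I * wI k I = 1 := by
  ext v : 1
  funext j
  change v (swf I (swf I j)) = v j
  rw [swf_swf I j]

theorem wI_tor (I : Fin m → Bool) (t : Fin m → kˣ) :
    wI k I * tor t * wI k I = tor fun i => if I i then (t i)⁻¹ else t i := by
  ext v : 1
  funext j
  change torVec t (swf I j) * v (swf I (swf I j)) = torVec (fun i => if I i then (t i)⁻¹ else t i) j * v j
  rw [swf_swf I j]
  congr 1
  rcases j with u | i | i
  · rfl
  · by_cases h : I i = true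
    · have h1 : swf I (.inr (.inl i)) = .inr (.inr i) := by simp [swf, h]
      rw [h1]
      change (((t i)⁻¹ : kˣ) : k) = ((if I i = true then (t i)⁻¹ else t i : kˣ) : k)
      rw [if_pos h]
    · have h1 : swf I (.inr (.inl i)) = .inr (.inl i) := by simp [swf, h]
      rw [h1]
      change ((t i : kˣ) : k) = ((if I i = true then (t i)⁻¹ else t i : kˣ) : k)
      rw [if_neg h]
  · by_cases h : I i = true
    · have h1 : swf I (.inr (.inr i)) = .inr (.inl i) := by simp [swf, h]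
      rw [h1]
      change ((t i : kˣ) : k) = (((if I i = true then (t i)⁻¹ else t i)⁻¹ : kˣ) : k)
      rw [if_pos h, inv_inv]
    · have h1 : swf I (.inr (.inr i)) = .inr (.inr i) := by simp [swf, h]
      rw [h1]
      change (((t i)⁻¹ : kˣ) : k) = (((if I i = true then (t i)⁻¹ else t i)⁻¹ : kˣ) : k)
      rw [if_neg h]

/-- from `O` to `E`, and a change of signs -/
theorem exists_signs [IsAlgClosed k] (h2 : (2 : k) ≠ 0) (hm : 2 ≤ m) {x g : (Ix m → k) ≃ₗ[k] (Ix m → k)}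
    (hg : g ∈ O (quadOdd m k)) {t : Fin m → kˣ} (hx : x = g * tor t * g⁻¹) {s s0 : Fin m → ℤ}
    (hs : ∀ i, s i = 1 ∨ s i = -1) (hs0 : ∀ i, s0 i = 1 ∨ s0 i = -1) (ht : ∏ i, t i ^ s i = 1) :
    ∃ (g' : GG m k) (t' : Fin m → kˣ), x = g'.1 * tor t' * (g'.1)⁻¹ ∧ ∏ i, t' i ^ s0 i = 1 := by
  classical
  set I : Fin m → Bool := fun i => decide (s i ≠ s0 i) with hI
  set t' : Fin m → kˣ := fun i => if I i then (t i)⁻¹ else t i with ht'
  have h1 : x = (g * wI k I) * tor t' * (g * wI k I)⁻¹ := by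
    rw [ht', ← wI_tor I t, hx]
    have h3 : (wI k I)⁻¹ = wI k I := inv_eq_of_mul_eq_one_left (wI_sq I)
    rw [_root_.mul_inv_rev, h3]
    have h4 : g * wI k I * (wI k I * tor t * wI k I) * (wI k I * g⁻¹) =
        g * (wI k I * wI k I) * tor t * (wI k I * wI k I) * g⁻¹ := by simp only [mul_assoc]
    rw [h4, wI_sq, mul_one, mul_one]
  have h3 : ∏ i, t' i ^ s0 i = 1 := by
    rw [← ht]
    refine Finset.prod_congr rfl fun i _ => ?_
    rw [ht']
    beta_reduce
    by_cases h : s i = s0 i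
    · have : I i = false := by rw [hI]; simp [h]
      rw [this, h]
      simp
    · have h4 : I i = true := by rw [hI]; simp [h]
      rw [if_pos h4]
      have h5 : s i = - s0 i := by
        have h6 := hs i
        have h7 := hs0 i
        omega
      rw [h5, inv_zpow, zpow_neg]
  rcases H41.StDiag.mem_E_or_neg h2 hm (mul_mem hg (wI_mem I)) with h | h
  · exact ⟨⟨_, h⟩, t', h1, h3⟩
  · refine ⟨⟨_, h⟩, t', ?_, h3⟩
    change x = (LinearEquiv.neg k * (g * wI k I)) * tor t' * (LinearEquiv.neg k * (g * wI k I))⁻¹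
    have hc : ∀ a : (Ix m → k) ≃ₗ[k] (Ix m → k), LinearEquiv.neg k * a = a * LinearEquiv.neg k := by
      intro a
      ext v : 1
      change -(a v) = a (-v)
      rw [map_neg]
    have h5 : LinearEquiv.neg k * (g * wI k I) * tor t' * (LinearEquiv.neg k * (g * wI k I))⁻¹ =
        LinearEquiv.neg k * ((g * wI k I) * tor t' * (g * wI k I)⁻¹) * (LinearEquiv.neg k)⁻¹ := by
      simp only [_root_.mul_inv_rev, mul_assoc]
    rw [h5, ← h1, hc, mul_inv_cancel_right]

end signs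

end Cfsg.Agent.H992.BB
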