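import Cfsg.Agent.H168.Uni.Zero
import Cfsg.Agent.H45.Uni.Main
import Cfsg.Agent.H45.UniS.Datum

/-!
# `Ω_{2m+1}` : the weight `n_m (± ε_1 ± … ± ε_m)` occurs, for every characteristic `≠ 2`

* `exists_Vx` : frames for all `m ≥ 1`;
* `exists_coef` : the matrix coefficient;
* `exists_signs` : sign changes;
* `datq` : the datum for `q = p ^ e`.
-/

set_option autoImplicit false
set_option linter.unusedSimpArgs false
set_option linter.unusedSectionVars false

namespace Cfsg.Agent.H992.BB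

open QuadraticMap Cfsg.Agent.LieClassical.OrthCore Cfsg.Agent.LieClassical.OmegaReindex
  Cfsg.Agent.LieClassical.OrthFinite Cfsg.Agent.H45.Uni Cfsg.Agent.H168.Uni Polynomial

section frames

/-- the weight `-σ` occurs -/
def Vx (m : ℕ) (k : Type*) [Field k] (n : Fin m → ℕ) (σ : Fin m → ℤ) : Prop :=
  ∃ (ζ : Ix m → k) (u u' : Fin m → Ix m → k) (ζ' : Ix m → k) (v v' : Fin m → Ix m → k) (c : k),
    Bs ζ u u' ∧ Bs ζ' v v' ∧ c ≠ 0 ∧ HasZ (fun t => chi (-σ) t * ∏ j, mn t v u j ^ n j) c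

variable {k : Type*} [Field k]

theorem sg_neg {r : ℕ} (μ : Fin (r + 1) → ℤ) : sg (-μ) = -sg μ := by
  funext i
  refine Fin.cases ?_ (fun i => Fin.cases ?_ (fun i => Fin.cases ?_ (fun i => ?_) i) i) i <;> rfl

/-- the inductive step -/
theorem Vx_step {r : ℕ} (h2 : (2 : k) ≠ 0) (n : Fin (r + 1 + 2) → ℕ) {σ : Fin (r + 1) → ℤ}
    (h : Vx (r + 1) k (fun j => n j.succ.succ) σ) : Vx (r + 1 + 2) k n (sg σ) := by
  obtain ⟨ζ, u, u', ζ', v, v', c, hu, hv, hc, hZ⟩ := h
  refine ⟨_, _, _, _, _, _, (2 ^ n 0 * ((-1) ^ n (Fin.succ 0) * ∏ j : Fin (r + 1), (-1) ^ n j.succ.succ)) * c,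
    Bs_U hu, Bs_V hv, ?_, ?_⟩
  · refine mul_ne_zero (mul_ne_zero (pow_ne_zero _ h2) (mul_ne_zero (pow_ne_zero _ (by simp))
      (Finset.prod_ne_zero_iff.2 fun j _ => pow_ne_zero _ (by simp)))) hc
  · have key := det_prod_congr (k := k) (phi (r := r)) (fun j : Fin (r + 1) => j.1 + 1) (fun j => n j.succ.succ)
      (fun j => Matrix.of fun a b => fun t => EE t (v (Fin.castLE j.2 a)) (u (Fin.castLE j.2 b)))
      (fun j => Matrix.of fun a b => fun t =>
        polar (quadOdd (r + 1) k) (v (Fin.castLE j.2 a)) (tor (tau t) (u (Fin.castLE j.2 b))))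
      (fun j a b => polar_tau_mem _ _) (fun j a b => EE_sub_mem _ _)
    have hZ' : HasZ (fun t => chi (-σ) (tau t) * ∏ j, mn (tau t) v u j ^ n j.succ.succ) c :=
      hZ.comp tau sg chi_tau sg_ne
    have e1 : (∏ j : Fin (r + 1), (Matrix.of fun (a b : Fin (j.1 + 1)) => fun t : Fin (r + 1 + 2) → kˣ =>
        polar (quadOdd (r + 1) k) (v (Fin.castLE j.2 a)) (tor (tau t) (u (Fin.castLE j.2 b)))).det ^ n j.succ.succ) =
        fun t => ∏ j, mn (tau t) v u j ^ n j.succ.succ := by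
      funext t
      rw [Finset.prod_apply]
      apply Finset.prod_congr rfl
      intro j _
      rw [Pi.pow_apply, det_fun]
      rfl
    rw [e1] at key
    have hchi : (chi (-(sg σ)) : (Fin (r + 1 + 2) → kˣ) → k) ∈
        LS k {μ : Fin (r + 1 + 2) → ℤ | phi μ ≤ 0} := by
      apply chi_mem
      change phi _ ≤ 0
      rw [map_neg, phi_sg, neg_zero]
    have key2 := mul_lt hchi key
    have hlt : LS k {μ : Fin (r + 1 + 2) → ℤ | phi μ < 0} ≤ LS k ({0}ᶜ : Set (Fin (r + 1 + 2) → ℤ)) := by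
      apply LS_mono
      intro μ (hμ : phi μ < 0) h0
      rw [Set.mem_singleton_iff] at h0
      rw [h0, map_zero] at hμ
      exact lt_irrefl _ hμ
    have e2 : ∀ t : Fin (r + 1 + 2) → kˣ, (chi (-σ) (tau t) : k) = chi (-(sg σ)) t := by
      intro t
      have := congrFun (chi_tau (k := k) (-σ)) t
      rw [sg_neg] at this
      exact this
    simp only [e2] at hZ'
    have h4 : HasZ (fun t => chi (-(sg σ)) t * (∏ j : Fin (r + 1), (Matrix.of fun (a b : Fin (j.1 + 1)) =>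
        fun t : Fin (r + 1 + 2) → kˣ => EE t (v (Fin.castLE j.2 a)) (u (Fin.castLE j.2 b))).det ^ n j.succ.succ) t) c := by
      refine hZ'.congr (hlt ?_)
      convert key2 using 1
      funext t
      rw [Pi.sub_apply, Pi.mul_apply, Pi.sub_apply, mul_sub]
    have h3 := h4.smul (2 ^ n 0 * ((-1) ^ n (Fin.succ 0) * ∏ j : Fin (r + 1), (-1) ^ n j.succ.succ))
    convert h3 using 1
    funext t
    rw [Fin.prod_univ_succ, Fin.prod_univ_succ, mn_zero, mn_one, Finset.prod_apply]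
    have e3 : ∏ i : Fin (r + 1), mn t (Fin.cons va (Fin.cons vb fun j => LV (v j)) : Fin (r + 1 + 2) → Ix (r + 1 + 2) → k)
      (Fin.cons ua (Fin.cons ub fun j => LU (u j)) : Fin (r + 1 + 2) → Ix (r + 1 + 2) → k) i.succ.succ ^ n i.succ.succ =
        (∏ j : Fin (r + 1), (-1) ^ n j.succ.succ) * ∏ c : Fin (r + 1), ((Matrix.of fun (a b : Fin (c.1 + 1)) =>
        fun t : Fin (r + 1 + 2) → kˣ => EE t (v (Fin.castLE c.2 a)) (u (Fin.castLE c.2 b))).det ^ n c.succ.succ) t := by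
      rw [← Finset.prod_mul_distrib]
      apply Finset.prod_congr rfl
      intro j _
      rw [mn_step, Pi.pow_apply, det_fun, ← neg_one_mul, mul_pow]
      rfl
    refine (congrArg (fun X => chi (-(sg σ)) t * (2 ^ n 0 * ((-1) ^ n (Fin.succ 0) * X))) e3).trans ?_
    ring

/-- `m = 1` -/
theorem Vx_one (n : Fin 1 → ℕ) : Vx 1 k n fun i => (n (Fin.last 0) : ℤ) * 1 := by
  refine ⟨vz, ve, vf, vz, vf, ve, 1, ?_, ?_, one_ne_zero, ?_⟩
  · constructor
    · exact Q_vz
    · intro i; rw [polar_vz]; simp [ve]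
    · intro i; rw [polar_vz]; simp [vf]
    · exact Q_ve
    · exact Q_vf
    · intro i j; rw [polar_ve]; simp [ve]
    · intro i j; rw [polar_vf]; simp [vf]
    · intro i j; rw [polar_ve]; simp [vf, Pi.single_apply]
  · constructor
    · exact Q_vz
    · intro i; rw [polar_vz]; simp [vf]
    · intro i; rw [polar_vz]; simp [ve]
    · exact Q_vf
    · exact Q_ve
    · intro i j; rw [polar_vf]; simp [vf]
    · intro i j; rw [polar_ve]; simp [ve]
    · intro i j; rw [polar_vf]; simp [ve, Pi.single_apply]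
  · have e : (fun t : Fin 1 → kˣ => (chi (-fun _ : Fin 1 => (n (Fin.last 0) : ℤ) * 1) t : k) *
        ∏ j, mn t vf ve j ^ n j) = fun _ => 1 := by
      funext t
      have h1 : mn t (vf : Fin 1 → Ix 1 → k) ve 0 = t 0 := by
        unfold mn
        refine (Matrix.det_fin_one _).trans ?_
        change polar (quadOdd 1 k) (vf 0) (tor t (ve 0)) = _
        rw [polar_vf, tor_e]
        simp [ve]
      rw [Fin.prod_univ_one, h1]
      unfold Cfsg.Agent.H168.Uni.chi
      rw [Fin.prod_univ_one]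
      change ((t 0 ^ (-((n 0 : ℤ) * 1)) : kˣ) : k) * _ = 1
      rw [← Units.val_pow_eq_pow_val, ← Units.val_mul, mul_one, zpow_neg, zpow_natCast, inv_mul_cancel, Units.val_one]
    rw [HasZ, e, sub_self]
    exact Submodule.zero_mem _

theorem polarB2 (x y : Ix 2 → k) : polar (quadOdd 2 k) x y = 2 * x (.inl ()) * y (.inl ()) +
    ((x (.inr (.inl 0)) * y (.inr (.inr 0)) + y (.inr (.inl 0)) * x (.inr (.inr 0))) +
    (x (.inr (.inl 1)) * y (.inr (.inr 1)) + y (.inr (.inl 1)) * x (.inr (.inr 1)))) := by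
  rw [polar_quadOdd, Fin.sum_univ_two]

theorem QB2 (x : Ix 2 → k) : quadOdd 2 k x = x (.inl ()) ^ 2 +
    (x (.inr (.inl 0)) * x (.inr (.inr 0)) + x (.inr (.inl 1)) * x (.inr (.inr 1))) := by
  rw [Q_apply, Fin.sum_univ_two]

/-- `m = 2` -/
theorem Vx_two (h2 : (2 : k) ≠ 0) (n : Fin 2 → ℕ) : Vx 2 k n fun i => (n (Fin.last 1) : ℤ) * 1 := by
  refine ⟨mkv 1 ![0, 0] ![0, -2], ![mkv 1 ![0, 1] ![0, -1], mkv 0 ![1, 0] ![0, 0]],
    ![mkv 0 ![0, 0] ![0, 1], mkv 0 ![0, 0] ![1, 0]],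
    mkv 1 ![0, 0] ![-2, 0], ![mkv 1 ![1, 0] ![-1, 0], mkv 0 ![0, 0] ![0, 1]],
    ![mkv 0 ![0, 0] ![1, 0], mkv 0 ![0, 1] ![0, 0]], 2 ^ n 0, ?_, ?_, pow_ne_zero _ h2, ?_⟩
  · constructor
    · rw [QB2]; simp [mkv]
    · intro i; fin_cases i <;> rw [polarB2] <;> simp [mkv]
    · intro i; fin_cases i <;> rw [polarB2] <;> simp [mkv]
    · intro i; fin_cases i <;> rw [QB2] <;> simp [mkv]
    · intro i; fin_cases i <;> rw [QB2] <;> simp [mkv]
    · intro i j; fin_cases i <;> fin_cases j <;> rw [polarB2] <;> simp [mkv] <;> ring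
    · intro i j; fin_cases i <;> fin_cases j <;> rw [polarB2] <;> simp [mkv]
    · intro i j; fin_cases i <;> fin_cases j <;> rw [polarB2] <;> simp [mkv]
  · constructor
    · rw [QB2]; simp [mkv]
    · intro i; fin_cases i <;> rw [polarB2] <;> simp [mkv]
    · intro i; fin_cases i <;> rw [polarB2] <;> simp [mkv]
    · intro i; fin_cases i <;> rw [QB2] <;> simp [mkv]
    · intro i; fin_cases i <;> rw [QB2] <;> simp [mkv]
    · intro i j; fin_cases i <;> fin_cases j <;> rw [polarB2] <;> simp [mkv] <;> ring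
    · intro i j; fin_cases i <;> fin_cases j <;> rw [polarB2] <;> simp [mkv]
    · intro i j; fin_cases i <;> fin_cases j <;> rw [polarB2] <;> simp [mkv]
  · set u : Fin 2 → Ix 2 → k := ![mkv 1 ![0, 1] ![0, -1], mkv 0 ![1, 0] ![0, 0]] with hu
    set v : Fin 2 → Ix 2 → k := ![mkv 1 ![1, 0] ![-1, 0], mkv 0 ![0, 0] ![0, 1]] with hv
    have e : (fun t : Fin 2 → kˣ => (chi (-fun _ : Fin 2 => (n (Fin.last 1) : ℤ) * 1) t : k) *
        ∏ j, mn t v u j ^ n j) = fun _ => 2 ^ n 0 := by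
      funext t
      have h00 : polar (quadOdd 2 k) (v 0) (tor t (u 0)) = 2 := by
        rw [polarB2, tor_z, tor_e, tor_f, tor_e, tor_f, hu, hv]; simp [mkv]
      have h01 : polar (quadOdd 2 k) (v 0) (tor t (u 1)) = - t 0 := by
        rw [polarB2, tor_z, tor_e, tor_f, tor_e, tor_f, hu, hv]; simp [mkv]
      have h10 : polar (quadOdd 2 k) (v 1) (tor t (u 0)) = t 1 := by
        rw [polarB2, tor_z, tor_e, tor_f, tor_e, tor_f, hu, hv]; simp [mkv]
      have h11 : polar (quadOdd 2 k) (v 1) (tor t (u 1)) = 0 := by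
        rw [polarB2, tor_z, tor_e, tor_f, tor_e, tor_f, hu, hv]; simp [mkv]
      have h1 : mn t v u 0 = 2 := by
        unfold mn
        refine (Matrix.det_fin_one _).trans ?_
        exact h00
      have h3 : mn t v u 1 = t 0 * t 1 := by
        unfold mn
        refine (Matrix.det_fin_two _).trans ?_
        change polar (quadOdd 2 k) (v 0) (tor t (u 0)) * polar (quadOdd 2 k) (v 1) (tor t (u 1)) -
          polar (quadOdd 2 k) (v 0) (tor t (u 1)) * polar (quadOdd 2 k) (v 1) (tor t (u 0)) = _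
        rw [h00, h01, h10, h11]
        ring
      rw [Fin.prod_univ_two, h1, h3]
      unfold Cfsg.Agent.H168.Uni.chi
      rw [Fin.prod_univ_two]
      change ((t 0 ^ (-((n 1 : ℤ) * 1)) * t 1 ^ (-((n 1 : ℤ) * 1)) : kˣ) : k) * _ = _
      have h5 : ((t 0 : k) * t 1) ^ n 1 = (((t 0 * t 1) ^ n 1 : kˣ) : k) := by push_cast; rfl
      rw [h5, mul_left_comm, ← Units.val_mul]
      have h6 : (t 0 ^ (-((n 1 : ℤ) * 1)) * t 1 ^ (-((n 1 : ℤ) * 1)) * (t 0 * t 1) ^ n 1 : kˣ) = 1 := by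
        rw [mul_one, zpow_neg, zpow_neg, zpow_natCast, zpow_natCast, mul_pow]
        rw [← _root_.mul_inv, inv_mul_cancel]
      rw [h6, Units.val_one, mul_one]
    rw [HasZ, e, sub_self]
    exact Submodule.zero_mem _

/-- **frames for all `m ≥ 1`** -/
theorem exists_Vx (h2 : (2 : k) ≠ 0) : ∀ r : ℕ, ∃ s : Fin (r + 1) → ℤ, (∀ i, s i = 1 ∨ s i = -1) ∧
    ∀ n : Fin (r + 1) → ℕ, Vx (r + 1) k n fun i => (n (Fin.last r) : ℤ) * s i
  | 0 => ⟨fun _ => 1, fun _ => Or.inl rfl, fun n => Vx_one n⟩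
  | 1 => ⟨fun _ => 1, fun _ => Or.inl rfl, fun n => Vx_two h2 n⟩
  | (r + 2) => by
    obtain ⟨s, hs, h⟩ := exists_Vx h2 r
    refine ⟨sg s, ?_, fun n => ?_⟩
    · intro i
      refine Fin.cases ?_ (fun i => Fin.cases ?_ (fun i => Fin.cases ?_ (fun i => ?_) i) i) i
      · change -s 0 = 1 ∨ -s 0 = -1
        rcases hs 0 with h | h <;> rw [h] <;> simp
      · exact hs 0
      · exact hs 0
      · exact hs i.succ
    · have h3 := Vx_step h2 n (h fun j => n j.succ.succ)
      have e : sg (fun i => ((n (Fin.last r).succ.succ : ℕ) : ℤ) * s i) =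
          fun i => (n (Fin.last (r + 2)) : ℤ) * sg s i := by
        funext i
        refine Fin.cases ?_ (fun i => Fin.cases ?_ (fun i => Fin.cases ?_ (fun i => ?_) i) i) i
        · change -((n (Fin.last r).succ.succ : ℤ) * s 0) = (n (Fin.last (r + 2)) : ℤ) * -s 0
          rw [mul_neg]; rfl
        · rfl
        · rfl
        · rfl
      rw [← e]
      exact h3

end frames

end Cfsg.Agent.H992.BB
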